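import Cfsg.Agent.Lib.ONEnding.NoOdd
import Cfsg.Agent.Lib.ONType.Side.Cent
import Cfsg.Agent.Lib.Involutions.StronglyEmbedded

/-!
# A finite simple group containing the O'Nan group with the centraliser of an involution is the O'Nan group
-/

set_option autoImplicit false

noncomputable section

namespace Cfsg.Agent.ONEnding

open Cfsg.Spor Cfsg.Agent.ONGroup Cfsg.Agent.ONType.Side

universe u

variable {G : Type u} [Group G] [Finite G]

/-- A proper such subgroup is strongly embedded. -/
theorem strongly_embedded (φ : ON →* G) (hinj : Function.Injective φ)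
    (hC : Subgroup.centralizer ({φ (let8 5)} : Set G) ≤ φ.range) (hne : φ.range ≠ ⊤) :
    Cfsg.IsStronglyEmbedded φ.range := by
  haveI := ONGroup.finite_ON
  refine Involutions.StronglyEmbedded.of_conj hne ?_ ?_
  · rw [← Nat.card_congr (MonoidHom.ofInjective hinj).toEquiv, card_ON]
    exact ⟨230407752960, by norm_num⟩
  · rintro t ⟨a, rfl⟩ ha g ⟨b, hb⟩
    have ha' : orderOf a = 2 := by rwa [orderOf_injective φ hinj] at ha
    have hb' : orderOf b = 2 := by
      rw [← orderOf_injective φ hinj, hb, Involutions.Basic.orderOf_conj]; exact ha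
    obtain ⟨p, hp⟩ := isConj_iff.1 (f_conj_all ha')
    obtain ⟨q, hq⟩ := isConj_iff.1 (f_conj_all hb')
    have hap : φ a = φ p * φ (let8 5) * (φ p)⁻¹ := by rw [← hp, map_mul, map_mul, map_inv]
    have hbq : φ b = φ q * φ (let8 5) * (φ q)⁻¹ := by rw [← hq, map_mul, map_mul, map_inv]
    have hmem : (φ q)⁻¹ * g * φ p ∈ φ.range := hC (Subgroup.mem_centralizer_singleton_iff.2 (by
      calc (φ q)⁻¹ * g * φ p * φ (let8 5) = (φ q)⁻¹ * (g * φ a * g⁻¹) * g * φ p := by rw [hap]; group
        _ = (φ q)⁻¹ * φ b * g * φ p := by rw [← hb]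
        _ = _ := by rw [hbq]; group))
    have := mul_mem (mul_mem (⟨q, rfl⟩ : φ q ∈ φ.range) hmem) (inv_mem (⟨p, rfl⟩ : φ p ∈ φ.range))
    rwa [show φ q * ((φ q)⁻¹ * g * φ p) * (φ p)⁻¹ = g by group] at this

/-- The ending: the map is surjective. -/
theorem surjective_of_centralizer (φ : ON →* G) (hinj : Function.Injective φ)
    (hC : Subgroup.centralizer ({φ (let8 5)} : Set G) ≤ φ.range) : Function.Surjective φ := by
  classical
  haveI := ONGroup.finite_ON
  rw [← MonoidHom.range_eq_top]
  by_contra hne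
  have hSE := strongly_embedded φ hinj hC hne
  obtain ⟨u, huH, hu⟩ := Involutions.StronglyEmbedded.exists_involution_notMem hSE
  set H := φ.range
  let D : Subgroup G := H ⊓ H.map (MulAut.conj u).toMonoidHom
  have hodd : Odd (Nat.card D) := hSE.2.2 u huH
  let D' : Subgroup ON := D.comap φ
  have hD' : Nat.card D' = Nat.card D := by
    refine Nat.card_eq_of_bijective (fun x : D' => (⟨φ x, x.2⟩ : D)) ⟨fun a b h => ?_, fun y => ?_⟩
    · exact Subtype.ext (hinj (congrArg Subtype.val h))
    · obtain ⟨a, ha⟩ := y.2.1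
      exact ⟨⟨a, by show φ a ∈ D; rw [ha]; exact y.2⟩, Subtype.ext ha⟩
  set C := Subgroup.centralizer ({let8 5} : Set ON)
  have hidx : C.index = 2857239 := by
    have h := C.card_mul_index
    rw [card_centralizer_f, card_ON] at h
    omega
  refine no_odd_subgroup D' (hD' ▸ hodd) ?_
  rw [← hidx]
  set S := C.subgroupOf D'
  have hbij : C.index = S.index := by
    rw [Subgroup.index_eq_card, Subgroup.index_eq_card]
    symm
    refine Nat.card_eq_of_bijective (Quotient.lift (fun d : D' => ((d : ON) : ON ⧸ C)) fun a b hab =>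
      QuotientGroup.eq.2 (QuotientGroup.leftRel_apply.1 hab : a⁻¹ * b ∈ S)) ⟨?_, ?_⟩
    · intro a b
      induction a using QuotientGroup.induction_on with
      | H a =>
        induction b using QuotientGroup.induction_on with
        | H b =>
          intro e
          exact QuotientGroup.eq.2 (QuotientGroup.eq.1 e : (a : ON)⁻¹ * b ∈ C)
    · intro q
      induction q using QuotientGroup.induction_on with
      | H g =>
        have hf : orderOf (φ (let8 5)) = 2 := by rw [orderOf_injective φ hinj, f_order]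
        obtain ⟨d, hd, hdt⟩ := Involutions.StronglyEmbedded.exists_conj_in_inter hSE hu huH hf ⟨_, rfl⟩
          (t := φ (g * let8 5 * g⁻¹)) (by rw [orderOf_injective φ hinj, Involutions.Basic.orderOf_conj, f_order])
          ⟨_, rfl⟩
        obtain ⟨a, ha⟩ := hd.1
        refine ⟨QuotientGroup.mk (⟨a, by show φ a ∈ D; rw [ha]; exact hd⟩ : D'), QuotientGroup.eq.2 ?_⟩
        show a⁻¹ * g ∈ C
        refine Subgroup.mem_centralizer_singleton_iff.2 ?_
        have e : a * let8 5 * a⁻¹ = g * let8 5 * g⁻¹ :=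
          hinj (by rw [map_mul, map_mul, map_inv, ha]; exact hdt)
        calc a⁻¹ * g * let8 5 = a⁻¹ * (g * let8 5 * g⁻¹) * g := by group
          _ = a⁻¹ * (a * let8 5 * a⁻¹) * g := by rw [e]
          _ = _ := by group
  rw [hbij]
  exact ⟨_, (mul_comm _ _).trans S.card_mul_index |>.symm⟩

/-- With the row's predicate. -/
theorem equiv_of_centralizer (φ : ON →* G) (hinj : Function.Injective φ)
    (hC : Subgroup.centralizer ({φ (let8 5)} : Set G) ≤ φ.range) : Nonempty (G ≃* ON) :=
  ⟨(MulEquiv.ofBijective φ ⟨hinj, surjective_of_centralizer φ hinj hC⟩).symm⟩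

end Cfsg.Agent.ONEnding
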