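import Cfsg.Agent.Lib.ONOut.Main

/-!
# The presented O'Nan group has no subgroup of odd order divisible by 2857239

A Sylow 31-subgroup is its own centraliser, so in such a subgroup its normaliser has order `31 * s` with
`s` dividing 15, and Sylow's congruence fails in every case.
-/

set_option autoImplicit false

noncomputable section

namespace Cfsg.Agent.ONEnding

open Cfsg.Spor Cfsg.Agent.InvCoset Cfsg.Agent.ONGroup

theorem fac31 : (Nat.card ON).factorization 31 = 1 := by
  rw [card_ON, show (460815505920 : ℕ) = 31 * 14865016320 by norm_num,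
    Nat.factorization_mul (by norm_num) (by norm_num), Nat.Prime.factorization (by norm_num)]
  simp [Nat.factorization_eq_zero_of_not_dvd (show ¬ 31 ∣ 14865016320 by norm_num)]

/-- An element of order 31 generates its centraliser. -/
theorem cent_31 {x : ON} (hx : orderOf x = 31) {a : ON} (ha : Commute a x) : a ∈ Subgroup.zpowers x := by
  haveI := ONGroup.finite_ON
  haveI : Fact (Nat.Prime 31) := ⟨by norm_num⟩
  let A : Sylow 31 ON := Sylow.ofCard (Subgroup.zpowers x) (by rw [Nat.card_zpowers, hx, fac31]; rfl)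
  let B : Sylow 31 ON := Sylow.ofCard (Subgroup.zpowers ONOut.eX)
    (by rw [Nat.card_zpowers, ONOut.orderX, fac31]; rfl)
  obtain ⟨h, e⟩ := MulAction.exists_smul_eq ON B A
  have hm : h * ONOut.eX * h⁻¹ ∈ Subgroup.zpowers x := by
    have h' : MulAut.conj h • ONOut.eX ∈ ((h • B : Sylow 31 ON) : Subgroup ON) := by
      rw [Sylow.coe_subgroup_smul, Subgroup.mem_smul_pointwise_iff_exists]
      exact ⟨_, Subgroup.mem_zpowers _, rfl⟩
    rw [e] at h'
    exact h'
  obtain ⟨n, hn⟩ := Subgroup.mem_zpowers_iff.1 hm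
  have hc : Commute (h⁻¹ * a * h) ONOut.eX := by
    have h1 : Commute a (h * ONOut.eX * h⁻¹) := hn ▸ ha.zpow_right n
    show _ = _
    calc h⁻¹ * a * h * ONOut.eX = h⁻¹ * (a * (h * ONOut.eX * h⁻¹)) * h := by group
      _ = h⁻¹ * (h * ONOut.eX * h⁻¹ * a) * h := by rw [h1.eq]
      _ = _ := by group
  obtain ⟨s, hs⟩ := ONOut.cent_X _ hc
  have : a = (h * ONOut.eX * h⁻¹) ^ s := by rw [conj_pow, ← hs]; group
  rw [this]
  exact pow_mem hm s

theorem k_cases {k s n : ℕ} (hk : k ∈ Nat.divisors 315) (hs : s ∈ Nat.divisors 15)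
    (hn : n % 31 = 1) (he : n * s = 92169 * k) : False := by
  have key : ∀ k ∈ Nat.divisors 315, ∀ s ∈ Nat.divisors 15, (92169 * k) % 31 ≠ s % 31 := by decide +kernel
  refine key k hk s hs ?_
  rw [← he, Nat.mul_mod, hn, one_mul, Nat.mod_mod]

/-- No subgroup of odd order has order divisible by 2857239. -/
theorem no_odd_subgroup (D : Subgroup ON) (hodd : Odd (Nat.card D)) (hd : 2857239 ∣ Nat.card D) : False := by
  haveI := ONGroup.finite_ON
  haveI : Fact (Nat.Prime 31) := ⟨by norm_num⟩
  obtain ⟨k, hk⟩ := hd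
  have hdvd : Nat.card D ∣ 460815505920 := card_ON ▸ D.card_subgroup_dvd_card
  have hk315 : k ∣ 315 := by
    have h1 : Nat.card D ∣ 900030285 :=
      Nat.Coprime.dvd_of_dvd_mul_left (m := 2 ^ 9)
        (Nat.Coprime.pow_right 9 (Nat.coprime_two_right.2 hodd)) (by norm_num; exact hdvd)
    rw [hk, show (900030285 : ℕ) = 2857239 * 315 by norm_num] at h1
    exact Nat.dvd_of_mul_dvd_mul_left (by norm_num) h1
  obtain ⟨P⟩ : Nonempty (Sylow 31 D) := inferInstance
  have hP : Nat.card (P : Subgroup D) = 31 := by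
    rw [P.card_eq_multiplicity]
    have : (Nat.card D).factorization 31 = 1 := by
      refine le_antisymm ?_ (Nat.Prime.factorization_pos_of_dvd (by norm_num) Nat.card_pos.ne'
        ⟨92169 * k, by rw [hk]; ring⟩)
      exact fac31 ▸ (Nat.factorization_le_iff_dvd Nat.card_pos.ne' Nat.card_pos.ne').2 D.card_subgroup_dvd_card 31
    rw [this, pow_one]
  have hcyc := isCyclic_of_prime_card hP
  obtain ⟨⟨x, hxP⟩, hx⟩ := hcyc.exists_generator
  have hxo : orderOf ((x : D) : ON) = 31 := by
    rw [Subgroup.orderOf_coe, ← Subgroup.orderOf_mk x hxP, orderOf_eq_card_of_forall_mem_zpowers hx, hP]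
  let N := Subgroup.normalizer ((P : Subgroup D) : Set D)
  let f : N →* MulAut (P : Subgroup D) := (P : Subgroup D).normalizerMonoidHom
  have hker : f.ker = (P : Subgroup D).subgroupOf N := by
    have e : f.ker = (Subgroup.centralizer ((P : Subgroup D) : Set D)).subgroupOf N :=
      Subgroup.normalizerMonoidHom_ker _
    rw [e]
    ext ⟨y, hy⟩
    simp only [Subgroup.mem_subgroupOf]
    constructor
    · intro h
      have hc : Commute ((y : D) : ON) ((x : D) : ON) :=
        congrArg Subtype.val (Subgroup.mem_centralizer_iff.1 h x hxP).symm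
      obtain ⟨n, hn⟩ := Subgroup.mem_zpowers_iff.1 (cent_31 hxo hc)
      have : y = x ^ n := Subtype.ext (by rw [SubgroupClass.coe_zpow]; exact hn.symm)
      exact this ▸ zpow_mem hxP n
    · intro h
      refine Subgroup.mem_centralizer_iff.2 fun z hz => ?_
      haveI := hcyc
      letI := IsCyclic.commGroup (α := (P : Subgroup D))
      exact congrArg Subtype.val (mul_comm (⟨z, hz⟩ : (P : Subgroup D)) ⟨y, h⟩)
  have hN : Nat.card N = 31 * Nat.card f.range := by
    rw [Subgroup.card_eq_card_quotient_mul_card_subgroup f.ker,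
      Nat.card_congr (QuotientGroup.quotientKerEquivRange f).toEquiv, hker,
      Nat.card_congr (Subgroup.subgroupOfEquivOfLe Subgroup.le_normalizer).toEquiv, hP, mul_comm]
  have hr30 : Nat.card f.range ∣ 30 := by
    have h := Subgroup.card_subgroup_dvd_card f.range
    haveI := hcyc
    rwa [IsCyclic.card_mulAut, hP, Nat.totient_prime (by norm_num)] at h
  have hs : Nat.card f.range ∈ Nat.divisors 15 := by
    have h : Odd (Nat.card f.range) := hodd.of_dvd_nat ((Dvd.intro_left 31 hN.symm).trans N.card_subgroup_dvd_card)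
    refine Nat.mem_divisors.2 ⟨?_, by norm_num⟩
    exact Nat.Coprime.dvd_of_dvd_mul_left (m := 2) (Nat.coprime_two_right.2 h) hr30
  have hn : Nat.card (Sylow 31 D) % 31 = 1 := by
    have h := card_sylow_modEq_one 31 D
    rwa [Nat.ModEq, show 1 % 31 = 1 from rfl] at h
  refine k_cases (k := k) (s := Nat.card f.range) (Nat.mem_divisors.2 ⟨hk315, by norm_num⟩) hs hn ?_
  have h := N.index_mul_card
  rw [show N.index = Nat.card (Sylow 31 D) from P.card_eq_index_normalizer.symm, hN, hk] at h
  have : 31 * (Nat.card (Sylow 31 D) * Nat.card f.range) = 31 * (92169 * k) := by linarith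
  omega

end Cfsg.Agent.ONEnding
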